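import Cfsg.Agent.Lib.Invol.SD16Core.Equation
import Cfsg.Agent.Lib.Invol.GLTwoThreeSimple
import Cfsg.Agent.Lib.Block.Dihedral.Main
import Cfsg.Agent.Lib.Block.ElemEight.Values
import Cfsg.Agent.Lib.Invol.SmallCent.Local

/-!
# An involution centraliser with image `GL(2,3)` modulo a subgroup of odd order: the kernel is trivial

The coset equations force a character of the principal 2-block of degree less than 16; the kernel of the map onto
`GL(2,3)` lies in its kernel.
-/

set_option autoImplicit false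
set_option maxRecDepth 100000
set_option linter.style.haveILetI false
set_option linter.unusedSectionVars false

namespace Cfsg.Agent.Invol.SD16Core

open scoped ComplexConjugate
open Cfsg GL23 Cfsg.Agent.Char Cfsg.Agent.Block

universe u

variable {G : Type u} [Group G]

theorem arith {N P : ℤ} {m K : ℤ} (hm : Odd m) (hK : Odd K) (hN : 2 ∣ N) (hP : ¬ 2 ∣ P) (hN0 : N ≠ 0)
    (hPN : (N - 8) * P + N * (N + 1) = 0)
    (hD : m * (16 * (N - 2) ^ 2) = K * (4608 * N * (N + 1))) : N = 10 ∨ N = 26 := by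
  have h72 : N - 8 ∣ 72 := ⟨-(P + N + 9), by linear_combination hPN⟩
  have hN8 : N - 8 ≠ 0 := fun e => by rw [e, show N = 8 by omega] at hPN; omega
  have hb : -64 ≤ N ∧ N ≤ 80 := by
    have h1 := Int.le_of_dvd (by norm_num) h72
    have h2 := Int.le_of_dvd (by norm_num) ((neg_dvd).2 h72)
    omega
  have table : ∀ k ∈ Finset.range 145, ∀ N' : ℤ, N' = (k : ℤ) - 64 → N' % 2 = 0 → N' ≠ 0 → N' - 8 ≠ 0 →
      (72 : ℤ) % (N' - 8) = 0 → (-(N' * (N' + 1)) / (N' - 8)) % 2 ≠ 0 →
      (∀ e ∈ Finset.range 20, (16 * (N' - 2) ^ 2) % (2 : ℤ) ^ e = 0 ↔ (4608 * N' * (N' + 1)) % (2 : ℤ) ^ e = 0) →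
      N' = 10 ∨ N' = 26 := by
    intro k hk
    simp only [forall_eq]
    revert k hk
    decide +kernel
  obtain ⟨k, hk⟩ : ∃ k : ℕ, (k : ℤ) = N + 64 := ⟨(N + 64).toNat, by omega⟩
  refine table k (Finset.mem_range.2 (by omega)) N (by omega) (by omega) hN0 hN8 (Int.emod_eq_zero_of_dvd h72) ?_
    fun e _ => ?_
  · rw [show -(N * (N + 1)) = P * (N - 8) by linear_combination -hPN, Int.mul_ediv_cancel _ hN8]
    omega
  · rw [← Int.dvd_iff_emod_eq_zero, ← Int.dvd_iff_emod_eq_zero]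
    have hodd : ∀ {a : ℤ}, Odd a → IsCoprime ((2 : ℤ) ^ e) a := fun ha => IsCoprime.pow_left (by
      obtain ⟨r, rfl⟩ := ha; exact ⟨-r, 1, by ring⟩)
    exact ⟨fun h => (hodd hK).dvd_of_dvd_mul_left (hD ▸ dvd_mul_of_dvd_right h m),
      fun h => (hodd hm).dvd_of_dvd_mul_left (hD.symm ▸ dvd_mul_of_dvd_right h K)⟩

namespace Data

variable (D : Data G) [Fintype G] [Fintype ↥(Subgroup.centralizer ({D.u} : Set G))] {M : Ideal AlgInt}

include D in
/-- A character of the principal block of degree less than 16. -/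
theorem exists_small (hM : IsPModular 2 M) (hres : pResidual 2 G = ⊤) :
    ∃ χ ∈ principalBlock M G, χ ≠ trivialIrr G ∧ charDegree (χ : G → ℂ) < 16 := by
  classical
  obtain ⟨th, e1, e2, ps, p1, p2, p3, ε, δ, δ1, δ2, δ3, S⟩ := (D.cfg).shape
  obtain ⟨hε, hδ, hδ1, hδ2, hδ3⟩ := S.sign
  have hpos := D.cfg.pos
  set n : IrrCharacter G → ℤ := fun χ => (charDegree (χ : G → ℂ) : ℤ) with hn
  set cz : IrrCharacter G → ℤ :=
    fun χ => 4 * D.co 0 χ + 2 * (D.co 3 χ + D.co 4 χ) - 3 * (D.co 1 χ + D.co 2 χ) with hcz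
  have vo : cz (trivialIrr G) = 1 := by simp [hcz, D.cfg.a_o]
  have vth : cz th = 2 * ε := by simp [hcz, S.v_th]; ring
  have vps : cz ps = -3 * δ := by simp [hcz, S.v_ps]
  have vp1 : cz p1 = δ1 := by simp [hcz, S.v_p1]; ring
  have vp2 : cz p2 = -3 * δ2 := by simp [hcz, S.v_p2]
  -- the elements
  have hrep : pS (rep 6) = true ∧ pS (rep 7) = true ∧ isRoot (rep 6) = true ∧ isRoot (rep 7) = true ∧
      pS (1, 0, 1, 2) = true ∧ rep 7 = mv nv (rep 6) ∧ isRoot (mv (rep 6) (rep 6)) = true ∧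
      tyv (mv (rep 6) (rep 6)) = 4 := by decide +kernel
  obtain ⟨hS6, hS7, hR6, hR7, hS5, h76, hR4, h4⟩ := hrep
  let a : ↥Semi := ⟨el 6, by show pS (toV (el 6)) = true; rw [toV_el]; exact hS6⟩
  let a' : ↥Semi := ⟨el 7, by show pS (toV (el 7)) = true; rw [toV_el]; exact hS7⟩
  obtain ⟨g₅, hg₅⟩ := toV_surj (v := (1, 0, 1, 2)) (by decide)
  let x₀ : ↥Semi := ⟨g₅, by show pS (toV g₅) = true; rw [hg₅]; exact hS5⟩
  have ha : toV (a : Q) = rep 6 := toV_el 6
  have ha' : toV (a' : Q) = rep 7 := toV_el 7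
  have hy : toV ((a * a : ↥Semi) : Q) = mv (rep 6) (rep 6) := by
    rw [show ((a * a : ↥Semi) : Q) = (a : Q) * a from rfl, toV_mul, ha]
  have hx₀ : tyv (toV (x₀ : Q)) = 5 := by show tyv (toV g₅) = 5; rw [hg₅]; decide
  have haa : a' = ⟨neg, neg_mem_semi⟩ * a := Subtype.ext (toV_injective (by
    rw [ha', show ((⟨neg, neg_mem_semi⟩ * a : ↥Semi) : Q) = neg * (a : Q) from rfl, toV_mul, toV_neg, ha, h76]))
  have ty6 : ty (a : Q) = 6 := ty_el 6
  have ty7 : ty (a' : Q) = 7 := ty_el 7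
  have tyy : ty ((a * a : ↥Semi) : Q) = 4 := by rw [ty, hy]; exact h4
  have avg4 : ∀ χ : IrrCharacter G, D.avg χ ((a * a : ↥Semi) : Q) = ((D.co 1 χ + D.co 2 χ : ℤ) : ℂ) := fun χ => by
    rw [classFun_ty (D.avg_classFun (IsIrr.classFun χ.2)), tyy, (D.values χ).2.1]
  -- membership and values in the block
  have out4 : ∀ χ : IrrCharacter G, χ ∉ principalBlock M G → D.co 1 χ + D.co 2 χ = 0 := fun χ hχ => by
    have h := avg4 χ
    rw [D.avg_root hM (Or.inl tyy), if_neg hχ] at h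
    exact_mod_cast h.symm
  have out8 : ∀ χ : IrrCharacter G, χ ∉ principalBlock M G → D.co 1 χ - D.co 2 χ = 0 := fun χ hχ => by
    have h := (D.values χ).2.2
    rw [show el 6 = (a : Q) from rfl, show el 7 = (a' : Q) from rfl, D.avg_root hM (Or.inr (Or.inl ty6)),
      D.avg_root hM (Or.inr (Or.inr ty7)), if_neg hχ, if_neg hχ, add_zero] at h
    have h' : (2 * (D.co 1 χ - D.co 2 χ) : ℤ) = 0 := by exact_mod_cast h.symm
    omega
  have mem : ∀ χ : IrrCharacter G, D.co 1 χ + D.co 2 χ ≠ 0 → χ ∈ principalBlock M G := fun χ h =>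
    by_contra fun hno => h (out4 χ hno)
  have hz : ∀ χ : IrrCharacter G, χ ∈ principalBlock M G → (χ : G → ℂ) D.u = (cz χ : ℂ) := fun χ hχ => by
    rw [← D.avg_neg hM hχ, show neg = el 1 from rfl, (D.values χ).1]
  -- the two equations
  set T := Dih.invCount D.O (D.p x₀) with hT
  set c := Nat.card D.π.ker with hc
  have eq4 := D.equation hM hres hx₀ (q := a * a) (by rw [hy]; exact hR4)
  have eq6 := D.equation hM hres hx₀ (q := a) (by rw [ha]; exact hR6)
  have eq7 := D.equation hM hres hx₀ (q := a') (by rw [ha']; exact hR7)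
  rw [show tyv (toV ((a * a : ↥Semi) : Q)) = 4 by rw [hy]; exact h4] at eq4
  rw [show tyv (toV (a : Q)) = 6 from ty6] at eq6
  rw [show tyv (toV (a' : Q)) = 7 from ty7] at eq7
  have hsum_block : ∀ (q : ↥Semi) (t : IrrCharacter G → ℂ),
      (∀ χ, χ ∉ principalBlock M G → t χ = 0) →
      (∀ χ ∈ principalBlock M G, t χ = (χ : G → ℂ) D.u ^ 2 / (χ : G → ℂ) 1 * (χ : G → ℂ) (D.p q)) →
      ∑ χ, t χ = ∑ᶠ χ ∈ principalBlock M G, (χ : G → ℂ) D.u ^ 2 / (χ : G → ℂ) 1 * (χ : G → ℂ) (D.p q) := by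
    intro q t h0 h1
    rw [finsum_mem_block, Finset.sum_filter]
    refine Finset.sum_congr rfl fun χ _ => ?_
    split_ifs with hχ
    · exact h1 χ hχ
    · exact h0 χ hχ
  set t4 : IrrCharacter G → ℂ := fun χ =>
    ((cz χ * cz χ * (D.co 1 χ + D.co 2 χ) : ℤ) : ℂ) / (n χ : ℂ) with ht4
  set t8 : IrrCharacter G → ℂ := fun χ =>
    ((cz χ * cz χ * (2 * (D.co 1 χ - D.co 2 χ)) : ℤ) : ℂ) / (n χ : ℂ) with ht8
  set K : ℤ := (c : ℤ) * (T : ℤ) ^ 2 with hKdef
  have hc0 : (c : ℂ) ≠ 0 := D.ker_ne_zero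
  have E4 : (Nat.card G : ℂ) * ∑ χ, t4 χ = 9216 * (K : ℂ) := by
    rw [hsum_block (a * a) t4 (fun χ hχ => by simp only [ht4]; rw [out4 χ hχ, mul_zero, Int.cast_zero, zero_div]) (fun χ hχ => by
      rw [hz χ hχ, charDeg_spec']
      have := avg4 χ
      rw [D.avg_root hM (Or.inl tyy), if_pos hχ] at this
      rw [this, ht4, hn]
      push_cast
      ring)]
    refine mul_left_cancel₀ hc0 ?_
    simp only [if_true, ← hc, ← hT] at eq4
    rw [hKdef]
    push_cast at eq4 ⊢
    linear_combination eq4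
  have E8 : ∑ χ, t8 χ = 0 := by
    simp only [Fin.reduceEq, if_false, Nat.cast_zero, mul_zero, zero_mul] at eq6 eq7
    have h0 : (Nat.card G : ℂ) * c ≠ 0 := mul_ne_zero (Nat.cast_ne_zero.2 Nat.card_pos.ne') hc0
    have s6 := (mul_eq_zero.1 eq6).resolve_left h0
    have s7 := (mul_eq_zero.1 eq7).resolve_left h0
    have : ∑ χ, t8 χ = ∑ χ : IrrCharacter G, ((if χ ∈ principalBlock M G then
          (χ : G → ℂ) D.u ^ 2 / (χ : G → ℂ) 1 * (χ : G → ℂ) (D.p a) else 0) +
        (if χ ∈ principalBlock M G then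
          (χ : G → ℂ) D.u ^ 2 / (χ : G → ℂ) 1 * (χ : G → ℂ) (D.p a') else 0)) := by
      refine Finset.sum_congr rfl fun χ _ => ?_
      split_ifs with hχ
      · have h := (D.values χ).2.2
        rw [show el 6 = (a : Q) from rfl, show el 7 = (a' : Q) from rfl, D.avg_root hM (Or.inr (Or.inl ty6)),
          D.avg_root hM (Or.inr (Or.inr ty7)), if_pos hχ, if_pos hχ] at h
        rw [← mul_add, h, hz χ hχ, charDeg_spec', ht8, hn]
        push_cast
        ring
      · simp only [ht8]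
        rw [out8 χ hχ, mul_zero, mul_zero, Int.cast_zero, zero_div, add_zero]
    rw [this, Finset.sum_add_distrib, ← Finset.sum_filter, ← Finset.sum_filter]
    rw [finsum_mem_block] at s6 s7
    rw [s6, s7, add_zero]
  -- distinctness
  have ne : ∀ {x y : IrrCharacter G} (k : Fin 5), D.co k x ≠ D.co k y → x ≠ y := fun k hk e => hk (e ▸ rfl)
  have o_th : trivialIrr G ≠ th := ne 2 (by rw [D.cfg.a_o, S.v_th]; simp; omega)
  have o_ps : trivialIrr G ≠ ps := ne 0 (by rw [D.cfg.a_o, S.v_ps]; simp)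
  have o_p1 : trivialIrr G ≠ p1 := ne 2 (by rw [D.cfg.a_o, S.v_p1]; simp; omega)
  have o_p2 : trivialIrr G ≠ p2 := ne 2 (by rw [D.cfg.a_o, S.v_p2]; simp; omega)
  have th_ps : th ≠ ps := ne 2 (by rw [S.v_th, S.v_ps]; simp; omega)
  have th_p1 : th ≠ p1 := ne 3 (by rw [S.v_th, S.v_p1]; simp; omega)
  have th_p2 : th ≠ p2 := ne 3 (by rw [S.v_th, S.v_p2]; simp; omega)
  have ps_p1 : ps ≠ p1 := ne 2 (by rw [S.v_ps, S.v_p1]; simp; omega)
  have ps_p2 : ps ≠ p2 := ne 2 (by rw [S.v_ps, S.v_p2]; simp; omega)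
  have p1_p2 : p1 ≠ p2 := ne 0 (by rw [S.v_p1, S.v_p2]; simp; omega)
  have hsum : ∀ f : IrrCharacter G → ℂ, (∀ χ, D.co 1 χ = 0 → D.co 2 χ = 0 → f χ = 0) →
      ∑ χ, f χ = f (trivialIrr G) + (f th + (f ps + (f p1 + f p2))) := by
    intro f hf
    rw [← Finset.sum_subset (Finset.subset_univ ({trivialIrr G, th, ps, p1, p2} : Finset (IrrCharacter G)))
      fun χ _ hχ => ?_]
    · rw [Finset.sum_insert (by simp [o_th, o_ps, o_p1, o_p2]), Finset.sum_insert (by simp [th_ps, th_p1, th_p2]),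
        Finset.sum_insert (by simp [ps_p1, ps_p2]), Finset.sum_pair p1_p2]
    simp only [Finset.mem_insert, Finset.mem_singleton, not_or] at hχ
    obtain ⟨q0, q1, q2, q3, q4⟩ := hχ
    have : ∀ k : Fin 5, k = 1 ∨ k = 2 → D.co k χ = 0 := by
      intro k hk
      by_cases r1 : χ = e1
      · subst r1; rw [S.v_e1]; rcases hk with rfl | rfl <;> simp
      by_cases r2 : χ = e2
      · subst r2; rw [S.v_e2]; rcases hk with rfl | rfl <;> simp
      by_cases r3 : χ = p3
      · subst r3; rw [S.v_p3]; rcases hk with rfl | rfl <;> simp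
      exact S.other χ q0 q1 r1 r2 q2 q3 q4 r3 k
    exact hf χ (this 1 (Or.inl rfl)) (this 2 (Or.inr rfl))
  rw [hsum t4 fun χ a b => by simp [ht4, a, b]] at E4
  rw [hsum t8 fun χ a b => by simp [ht8, a, b]] at E8
  simp only [ht4, ht8, vo, vth, vps, vp1, vp2, S.v_th, S.v_ps, S.v_p1, S.v_p2, D.cfg.a_o] at E4 E8
  have hno : n (trivialIrr G) = 1 := D.cfg.n_o
  simp [hno, -Nat.card_eq_fintype_card] at E4 E8
  -- signed degrees
  set N := ε * n th with hN
  set Mm := δ * n ps with hMm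
  set P := δ1 * n p1 with hP
  set R := δ2 * n p2 with hR
  have hth0 : (n th : ℂ) ≠ 0 := Int.cast_ne_zero.2 (hpos th).ne'
  have hps0 : (n ps : ℂ) ≠ 0 := Int.cast_ne_zero.2 (hpos ps).ne'
  have hp10 : (n p1 : ℂ) ≠ 0 := Int.cast_ne_zero.2 (hpos p1).ne'
  have hp20 : (n p2 : ℂ) ≠ 0 := Int.cast_ne_zero.2 (hpos p2).ne'
  have cs : ∀ {s m : ℤ} (k : ℂ), (s = 1 ∨ s = -1) → (m : ℂ) ≠ 0 →
      k * (s : ℂ) / (m : ℂ) = k / ((s * m : ℤ) : ℂ) := fun {s m} k hs hm => by
    rcases hs with rfl | rfl <;> push_cast <;> field_simp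
  have E4' : (Nat.card G : ℂ) * (1 + 8 / (N : ℂ) + 9 / (Mm : ℂ) + 1 / (P : ℂ) + 9 / (R : ℂ)) = 9216 * (K : ℂ) := by
    rw [hN, hMm, hP, hR, ← cs 8 hε hth0, ← cs 9 hδ hps0, ← cs 1 hδ1 hp10, ← cs 9 hδ2 hp20, ← E4]
    congr 1
    rcases hε with rfl | rfl <;> rcases hδ with rfl | rfl <;> rcases hδ1 with rfl | rfl <;>
      rcases hδ2 with rfl | rfl <;> push_cast <;> ring
  have E8' : 1 + 9 / (Mm : ℂ) - 1 / (P : ℂ) - 9 / (R : ℂ) = 0 := by
    rw [hMm, hP, hR, ← cs 9 hδ hps0, ← cs 1 hδ1 hp10, ← cs 9 hδ2 hp20]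
    rcases hε with rfl | rfl <;> rcases hδ with rfl | rfl <;> rcases hδ1 with rfl | rfl <;>
      rcases hδ2 with rfl | rfl <;> push_cast at E8 ⊢ <;> linear_combination E8 / 2
  have hN0 : (N : ℂ) ≠ 0 := by
    rw [hN]; push_cast; exact mul_ne_zero (Int.cast_ne_zero.2 (by omega)) hth0
  have hM0 : (Mm : ℂ) ≠ 0 := by
    rw [hMm]; push_cast; exact mul_ne_zero (Int.cast_ne_zero.2 (by omega)) hps0
  have hP0 : (P : ℂ) ≠ 0 := by
    rw [hP]; push_cast; exact mul_ne_zero (Int.cast_ne_zero.2 (by omega)) hp10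
  have hR0 : (R : ℂ) ≠ 0 := by
    rw [hR]; push_cast; exact mul_ne_zero (Int.cast_ne_zero.2 (by omega)) hp20
  field_simp at E4' E8'
  have I4 : (Nat.card G : ℤ) * (N * Mm * P * R + 8 * Mm * P * R + 9 * N * P * R + N * Mm * R + 9 * N * Mm * P) =
      9216 * K * (N * Mm * P * R) := by
    have : (((Nat.card G : ℤ) * (N * Mm * P * R + 8 * Mm * P * R + 9 * N * P * R + N * Mm * R + 9 * N * Mm * P) : ℤ) : ℂ) =
        ((9216 * K * (N * Mm * P * R) : ℤ) : ℂ) := by push_cast; linear_combination E4'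
    exact_mod_cast this
  have I8 : Mm * P * R + 9 * P * R - Mm * R - 9 * Mm * P = 0 := by
    have : ((Mm * P * R + 9 * P * R - Mm * R - 9 * Mm * P : ℤ) : ℂ) = ((0 : ℤ) : ℂ) := by
      push_cast; linear_combination E8'
    exact_mod_cast this
  have hMv : Mm = -1 - N := by rw [hMm, hN]; have := S.deg_ps; omega
  have hRv : R = -N - P := by rw [hR, hN, hP]; have := S.deg_p2; omega
  -- membership
  have th_mem : th ∈ principalBlock M G := mem th (by simp [S.v_th]; omega)
  have p1_mem : p1 ∈ principalBlock M G := mem p1 (by simp [S.v_p1]; omega)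
  have p2_mem : p2 ∈ principalBlock M G := mem p2 (by simp [S.v_p2]; omega)
  -- the character of degree one
  have hP1 : P ≠ 1 := by
    suffices n p1 ≠ 1 by
      have : 0 < n p1 := hpos p1
      rcases hδ1 with rfl | rfl <;> omega
    intro hone
    obtain ⟨l, hl⟩ := linearHom_of_isCharacter (IsIrr.isCharacter p1.2) (by
      rw [charDeg_spec', show charDegree (p1 : G → ℂ) = 1 by
        have h' : (charDegree (p1 : G → ℂ) : ℤ) = 1 := hone
        exact_mod_cast h', Nat.cast_one])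
    have hl' : ∀ g, (p1 : G → ℂ) g = (l g : ℂ) := fun g => congrFun hl g
    have hv1 := hz p1 p1_mem
    rw [vp1, hl'] at hv1
    rcases hδ1 with rfl | rfl
    · have h := (D.values p1).2.2
      rw [show el 6 = (a : Q) from rfl, show el 7 = (a' : Q) from rfl, D.avg_root hM (Or.inr (Or.inl ty6)),
        D.avg_root hM (Or.inr (Or.inr ty7)), if_pos p1_mem, if_pos p1_mem, haa, map_mul, D.p_neg, hl', hl',
        map_mul, Units.val_mul, hv1] at h
      simp [S.v_p1] at h
      exact hom_neg_one_absurd hres l (g := D.p a) (by linear_combination h / 2)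
    · exact hom_neg_one_absurd hres l (g := D.u) (by rw [hv1]; norm_num)
  have hNP : N = 10 ∨ N = 26 ∧ P = -39 := by
    have hN0' : N ≠ 0 := Int.cast_ne_zero.1 hN0
    have hPN : (N - 8) * P + N * (N + 1) = 0 := by
      have : (P - 1) * ((N - 8) * P + N * (N + 1)) = 0 := by
        rw [hMv, hRv] at I8; linear_combination I8
      exact (mul_eq_zero.1 this).resolve_left (sub_ne_zero.2 hP1)
    have hpar : ∀ χ ∈ principalBlock M G, (2 : ℤ) ∣ (charDegree (χ : G → ℂ) : ℤ) - cz χ := fun χ hχ => by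
      obtain ⟨k, hk, hd⟩ := Dih.char_involution_parity χ D.u_sq
      rw [hz χ hχ] at hk
      have : cz χ = k := by exact_mod_cast hk
      rwa [this]
    obtain ⟨m, hm, hG⟩ := D.exists_card_eq
    have hodd : Odd (T : ℤ) := by
      obtain ⟨hx2, hx1⟩ := type_five hx₀
      have hxO : D.p x₀ ∉ D.O := fun h => by
        have := (D.mem_O (D.p_mem x₀)).1 h
        rw [D.pi_p] at this
        exact hx1 (Subtype.ext this)
      have h := Dih.invCount_mul D.O (x := D.p x₀) (by rw [← map_mul, hx2, map_one]) hxO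
        (D.le_normalizer (D.p_mem x₀)) D.odd_O
      rw [← hT] at h
      refine (Int.odd_coe_nat T).2 (Nat.not_even_iff_odd.1 fun he => D.odd_O ?_)
      exact he.two_dvd.trans ⟨_, h.symm⟩
    have hcodd : Odd (c : ℤ) := (Int.odd_coe_nat c).2 (Nat.not_even_iff_odd.1 fun he => D.odd he.two_dvd)
    have hK : Odd K := by
      rw [hKdef, pow_two]; exact hcodd.mul (hodd.mul hodd)
    have hG' : (Nat.card G : ℤ) * (2 * N * Mm + 8 * Mm + 18 * N) = 9216 * K * (N * Mm) := by
      have hPR : P * R ≠ 0 := mul_ne_zero (Int.cast_ne_zero.1 hP0) (Int.cast_ne_zero.1 hR0)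
      refine mul_right_cancel₀ hPR ?_
      linear_combination I4 + (Nat.card G : ℤ) * N * I8
    have hPodd : ¬ 2 ∣ P := by
      have := hpar p1 p1_mem
      rw [vp1] at this
      rw [hP, show n p1 = (charDegree (p1 : G → ℂ) : ℤ) from rfl]
      rcases hδ1 with rfl | rfl <;> omega
    refine (arith (N := N) (P := P) (m := (m : ℤ)) (K := K) ((Int.odd_coe_nat m).2 hm) hK ?_ hPodd hN0' hPN
      ?_).imp_right fun e => ⟨e, ?_⟩
    · have := hpar th th_mem
      rw [vth] at this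
      rw [hN]
      exact dvd_mul_of_dvd_right (show (2 : ℤ) ∣ (charDegree (th : G → ℂ) : ℤ) by omega) ε
    · have hG'' : (Nat.card G : ℤ) = 16 * (m : ℤ) := by exact_mod_cast hG
      rw [hMv, hG''] at hG'
      exact mul_left_cancel₀ (two_ne_zero (α := ℤ)) (by linear_combination -hG')
    · rw [e] at hPN; omega
  rcases hNP with h | ⟨h, h'⟩
  · refine ⟨th, th_mem, o_th.symm, ?_⟩
    have : n th = 10 := by
      have := hpos th
      rw [hN] at h
      rcases hε with rfl | rfl <;> simp only [hn] at * <;> omega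
    simp only [hn] at this; omega
  · refine ⟨p2, p2_mem, o_p2.symm, ?_⟩
    have : n p2 = 13 := by
      have := hpos p2
      have hR13 : R = 13 := by omega
      rw [hR] at hR13
      rcases hδ2 with rfl | rfl <;> simp only [hn] at * <;> omega
    simp only [hn] at this; omega

include D in
/-- Some nontrivial character has the kernel of the map onto `GL(2,3)` in its kernel. -/
theorem exists_kernel (hM : IsPModular 2 M) (hres : pResidual 2 G = ⊤) :
    ∃ χ : IrrCharacter G, χ ≠ trivialIrr G ∧ ∀ l ∈ D.O, (χ : G → ℂ) l = (χ : G → ℂ) 1 := by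
  classical
  cases nonempty_fintype ↥D.O
  obtain ⟨χ, hχ, hne, h16⟩ := D.exists_small hM hres
  refine ⟨χ, hne, ?_⟩
  set n := charDegree (χ : G → ℂ) with hn
  have hχ1 : (χ : G → ℂ) 1 = (n : ℂ) := charDeg_spec' χ
  obtain ⟨k, hk⟩ := IsChar.one_eq_nat (D.avg_isCharacter (irr_isChar χ))
  obtain ⟨r, hr⟩ := IsChar.classInner_nat (IsChar.comp D.p (irr_isChar χ) : IsCharacter ↥Semi fun q => (χ : G → ℂ) (D.p q))
    (IsIrr.isCharacter isIrr_one)
  obtain ⟨r', hr'⟩ := IsChar.classInner_nat (IsChar.res (D.avg_isCharacter (irr_isChar χ)) Semi)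
    (IsIrr.isCharacter (isIrr_one (G := ↥Semi)))
  -- the multiplicities of the trivial character differ by a sixteenth of the difference of the degrees
  have hdiff : (n : ℂ) - k = 16 * ((r : ℂ) - r') := by
    rw [← hr, ← hr', classInner, classInner, card_Semi]
    simp only [map_one, mul_one]
    rw [← mul_sub, ← Finset.sum_sub_distrib, Finset.sum_eq_single (1 : ↥Semi)
      (fun q _ hq => by rw [D.avg_semi hM hres hχ hq, sub_self]) (fun h => absurd (Finset.mem_univ _) h),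
      map_one, hχ1, show ((1 : ↥Semi) : Q) = 1 from rfl, hk]
    ring
  -- the sum over the kernel
  have hsum : ∑ l : ↥D.O, (χ : G → ℂ) l = (Nat.card D.π.ker : ℂ) * k := by
    rw [← hk, show (1 : Q) = ((1 : ↥Semi) : Q) from rfl, D.avg_eq, mul_inv_cancel_left₀ D.ker_ne_zero]
    simp
  have hre : ∀ l : ↥D.O, ((χ : G → ℂ) l).re ≤ n := fun l => by
    have h := IsChar.norm_le (irr_isChar χ) (l : G)
    rw [hχ1, Complex.norm_natCast] at h
    exact (Complex.re_le_norm _).trans h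
  have hc : (0 : ℝ) < Nat.card D.π.ker := Nat.cast_pos.2 Nat.card_pos
  have hkn : k ≤ n := by
    have h := congrArg Complex.re hsum
    rw [Complex.re_sum, Complex.mul_re, Complex.natCast_im, zero_mul, sub_zero, Complex.natCast_re,
      Complex.natCast_re] at h
    have h2 := Finset.sum_le_sum (s := Finset.univ) fun l _ => hre l
    rw [h, Finset.sum_const, nsmul_eq_mul, Finset.card_univ, ← Nat.card_eq_fintype_card, D.card_O] at h2
    exact_mod_cast le_of_mul_le_mul_left h2 hc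
  have hkeq : k = n := by
    have h : (n : ℤ) - k = 16 * ((r : ℤ) - r') := by exact_mod_cast hdiff
    omega
  have hzero : ∀ l : ↥D.O, (n : ℝ) - ((χ : G → ℂ) l).re = 0 := by
    have h := congrArg Complex.re hsum
    rw [Complex.re_sum, Complex.mul_re, Complex.natCast_im, zero_mul, sub_zero, Complex.natCast_re,
      Complex.natCast_re] at h
    have h2 : ∑ l : ↥D.O, ((n : ℝ) - ((χ : G → ℂ) l).re) = 0 := by
      rw [Finset.sum_sub_distrib, h, Finset.sum_const, nsmul_eq_mul, Finset.card_univ, ← Nat.card_eq_fintype_card,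
        D.card_O, hkeq, sub_self]
    exact fun l => (Finset.sum_eq_zero_iff_of_nonneg fun l _ => sub_nonneg.2 (hre l)).1 h2 l (Finset.mem_univ l)
  intro l hl
  have h := IsChar.norm_le (irr_isChar χ) l
  rw [hχ1, Complex.norm_natCast] at h
  rw [hχ1, eq_ofReal_of_re_eq (sub_eq_zero.1 (hzero ⟨l, hl⟩)).symm h, Complex.ofReal_natCast]

end Data

/-- A simple group in which some involution has a centraliser with image `GL(2,3)` modulo a subgroup of odd order
has this centraliser isomorphic to `GL(2,3)`. -/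
theorem ker_eq_bot [Finite G] [IsSimpleGroup G] (hG : ¬ IsMulCommutative G) {u : G} (hu : orderOf u = 2)
    (π : ↥(Subgroup.centralizer ({u} : Set G)) →* Q) (surj : Function.Surjective π)
    (odd : ¬ 2 ∣ Nat.card π.ker) : Nonempty (↥(Subgroup.centralizer ({u} : Set G)) ≃* Q) := by
  classical
  cases nonempty_fintype G
  obtain ⟨D, rfl⟩ := exists_data hu π surj odd
  cases nonempty_fintype ↥(Subgroup.centralizer ({D.u} : Set G))
  obtain ⟨M, hM⟩ := exists_isPModular 2 Nat.prime_two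
  have hres : pResidual 2 G = ⊤ := SmallCent.pResidual_eq_top fun hc => hG (by
    haveI := hc; exact ⟨⟨fun a b => (IsCyclic.commGroup (α := G)).mul_comm a b⟩⟩)
  obtain ⟨χ, hne, hker⟩ := D.exists_kernel hM hres
  have hO : ∀ l ∈ D.O, l = 1 := fun l hl =>
    by_contra fun h => hne (ElemEight.eq_trivial_of_ker χ h (hker l hl))
  refine ⟨MulEquiv.ofBijective D.π ⟨(injective_iff_map_eq_one D.π).2 fun g hg => Subtype.ext ?_, D.surj⟩⟩
  exact hO g ((D.mem_O g.2).2 hg)

/-- The group is isomorphic to `PSL(3,3)` or the Mathieu group of degree 11 once the centraliser has image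
`GL(2,3)`. -/
theorem card_eq [Finite G] [IsSimpleGroup G] (hG : ¬ IsMulCommutative G) {u : G} (hu : orderOf u = 2)
    (π : ↥(Subgroup.centralizer ({u} : Set G)) →* Q) (surj : Function.Surjective π)
    (odd : ¬ 2 ∣ Nat.card π.ker) : Nat.card G = 5616 ∨ Nat.card G = 7920 := by
  obtain ⟨e⟩ := ker_eq_bot hG hu π surj odd
  exact natCard_of_centralizer (SmallCent.pResidual_eq_top fun hc => hG (by
    haveI := hc; exact ⟨⟨fun a b => (IsCyclic.commGroup (α := G)).mul_comm a b⟩⟩)) hu e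

end Cfsg.Agent.Invol.SD16Core
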