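import Cfsg.Agent.Lib.Invol.SD16Core.Values

/-!
# An involution centraliser with image `GL(2,3)` modulo a subgroup of odd order: the coset equations

Pairs of involutions with product in the cosets over an element of order four and over the elements of order eight.
-/

set_option autoImplicit false
set_option maxRecDepth 100000
set_option linter.style.haveILetI false
set_option linter.unusedSectionVars false

namespace Cfsg.Agent.Invol.SD16Core

open scoped ComplexConjugate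
open Cfsg GL23 Cfsg.Agent.Char Cfsg.Agent.Block

universe u

variable {G : Type u} [Group G]

/-! ### Tables -/

/-- The three roots used. -/
def isRoot (v : V) : Bool := decide (v = mv w8 w8 ∨ v = w8 ∨ v = mv nv w8)

theorem root_types : ∀ v ∈ units, isRoot v = true → pS v = true ∧ (tyv v = 4 ∨ tyv v = 6 ∨ tyv v = 7) := by
  decide +kernel

theorem root_comm : ∀ v ∈ units, isRoot v = true → ∀ w ∈ units, decide (mv w v = mv v w) = true → pS w = true := by
  decide +kernel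

theorem root_invert : ∀ v ∈ units, isRoot v = true → ∀ w ∈ units,
    decide (mv (mv w (iv v)) (iv w) = v) = true → pS w = true := by decide +kernel

theorem root_pair : ∀ v ∈ units, isRoot v = true → ∀ w ∈ units, pS w = true →
    ((tyv w = 1 ∨ tyv w = 5) ∧ (tyv (mv w (iv v)) = 1 ∨ tyv (mv w (iv v)) = 5)) →
    tyv w = 5 ∧ tyv (mv w (iv v)) = 5 := by decide +kernel

theorem root_count : ∀ v ∈ units, isRoot v = true →
    (units.filter fun w => pS w = true ∧ tyv w = 5 ∧ tyv (mv w (iv v)) = 5).card =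
      if tyv v = 4 then 4 else 0 := by decide +kernel

theorem invol_iff : ∀ w ∈ units, decide (mv w w = ov ∧ w ≠ ov) = decide (tyv w = 1 ∨ tyv w = 5) := by
  decide +kernel

namespace Data

variable (D : Data G) [Fintype G] [Fintype ↥(Subgroup.centralizer ({D.u} : Set G))] {M : Ideal AlgInt}

/-- The preimage of the Sylow subgroup. -/
def H : Subgroup G := (Semi.comap D.π).map (Subgroup.centralizer ({D.u} : Set G)).subtype

theorem mem_H {g : G} (hg : g ∈ Subgroup.centralizer ({D.u} : Set G)) : g ∈ D.H ↔ D.π ⟨g, hg⟩ ∈ Semi :=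
  ⟨fun ⟨x, hx, he⟩ => by rw [show (⟨g, hg⟩ : Subgroup.centralizer ({D.u} : Set G)) = x from Subtype.ext he.symm]; exact hx,
    fun h => ⟨⟨g, hg⟩, h, rfl⟩⟩

theorem H_le : D.H ≤ Subgroup.centralizer ({D.u} : Set G) := Subgroup.map_subtype_le _

theorem odd2 : Dih.Odd2 D.O D.H D.p.range where
  odd := D.odd_O
  le := fun g hg => (D.mem_H (D.O_le hg)).2 (by rw [(D.mem_O (D.O_le hg)).1 hg]; exact Semi.one_mem)
  norm := D.H_le.trans D.le_normalizer
  ple := by
    rintro _ ⟨q, rfl⟩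
    exact (D.mem_H (D.p_mem q)).2 (by rw [D.pi_p]; exact q.2)
  disj := by
    rw [eq_bot_iff]
    rintro g ⟨hg, q, rfl⟩
    have := (D.mem_O (D.p_mem q)).1 hg
    rw [D.pi_p] at this
    rw [Subgroup.mem_bot, show q = 1 from Subtype.ext this, map_one]
  card := by
    have h1 : (Semi.comap D.π).index = 3 := by
      rw [Subgroup.index_comap_of_surjective _ D.surj]
      have := Semi.card_mul_index
      rw [card_Semi, card_Q] at this
      omega
    have h2 := (Semi.comap D.π).card_mul_index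
    rw [h1, D.card_C] at h2
    rw [H, ← Nat.card_congr (Subgroup.equivMapOfInjective _ _ (Subgroup.subtype_injective _)).toEquiv,
      D.card_O, D.card_range]
    omega

theorem invol_p {x : ↥Semi} (h : x * x = 1) (h1 : x ≠ 1) :
    tyv (toV (x : Q)) = 1 ∨ tyv (toV (x : Q)) = 5 := by
  refine invol_table _ (mem_units _) (by rw [← toV_mul, ← toV_one]; exact congrArg toV (congrArg Subtype.val h))
    fun e => h1 (Subtype.ext (toV_injective (e.trans toV_one.symm)))

theorem type_five {x : ↥Semi} (h : tyv (toV (x : Q)) = 5) : x * x = 1 ∧ x ≠ 1 := by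
  have := of_decide_eq_true ((invol_iff _ (mem_units (x : Q))).trans (decide_eq_true (Or.inr h)))
  refine ⟨Subtype.ext (toV_injective ?_), fun e => this.2 ?_⟩
  · rw [show ((x * x : ↥Semi) : Q) = (x : Q) * x from rfl, toV_mul, this.1]; exact toV_one.symm
  · rw [e]; exact toV_one

/-- The number of involutions in a coset over the Sylow subgroup. -/
theorem invCount_p {x₀ : ↥Semi} (h₀ : tyv (toV (x₀ : Q)) = 5) (x : ↥Semi) :
    (tyv (toV (x : Q)) = 5 → Dih.invCount D.O (D.p x) = Dih.invCount D.O (D.p x₀)) ∧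
      (tyv (toV (x : Q)) ≠ 1 ∧ tyv (toV (x : Q)) ≠ 5 → Dih.invCount D.O (D.p x) = 0) := by
  refine ⟨fun h5 => ?_, fun hne => ?_⟩
  · obtain ⟨z, hz, hzS, hzc⟩ := semi_reflections _ (mem_units (x₀ : Q)) _ (mem_units (x : Q)) x₀.2 x.2 h₀ h5
    obtain ⟨z, rfl⟩ := toV_surj (Finset.mem_filter.1 hz).2
    have e : x = ⟨z, hzS⟩ * x₀ * ⟨z, hzS⟩⁻¹ := Subtype.ext (toV_injective (by
      rw [show ((⟨z, hzS⟩ * x₀ * ⟨z, hzS⟩⁻¹ : ↥Semi) : Q) = z * x₀ * z⁻¹ from rfl, toV_mul, toV_mul, toV_inv, hzc]))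
    rw [e, map_mul, map_mul, map_inv]
    exact Dih.invCount_conj D.O (D.le_normalizer (D.p_mem _)) _
  · rw [Dih.invCount, Nat.card_eq_zero]
    left
    refine ⟨fun ⟨l, hl⟩ => ?_⟩
    have hC : (l : G) * D.p x ∈ Subgroup.centralizer ({D.u} : Set G) := mul_mem (D.O_le l.2) (D.p_mem x)
    have h2 : (⟨(l : G) * D.p x, hC⟩ : ↥(Subgroup.centralizer ({D.u} : Set G))) * ⟨(l : G) * D.p x, hC⟩ = 1 :=
      Subtype.ext (by
        have := pow_orderOf_eq_one ((l : G) * D.p x)
        rw [hl, pow_two] at this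
        exact this)
    have hπ : D.π ⟨(l : G) * D.p x, hC⟩ = x := by
      rw [show (⟨(l : G) * D.p x, hC⟩ : ↥(Subgroup.centralizer ({D.u} : Set G))) = ⟨(l : G), D.O_le l.2⟩ *
        ⟨D.p x, D.p_mem x⟩ from rfl, map_mul, (D.mem_O (D.O_le l.2)).1 l.2, one_mul, D.pi_p]
    have h3 := congrArg D.π h2
    rw [map_mul, map_one, hπ] at h3
    by_cases hx : x = 1
    · subst hx
      rw [map_one, mul_one] at hl
      exact D.odd_O (hl ▸ (D.O.orderOf_dvd_natCard l.2))
    · rcases invol_p (Subtype.ext h3) hx with e | e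
      · exact hne.1 e
      · exact hne.2 e

/-- The coset equation at a root. -/
theorem equation (hM : IsPModular 2 M) (hres : pResidual 2 G = ⊤) {x₀ : ↥Semi} (h₀ : tyv (toV (x₀ : Q)) = 5)
    {q : ↥Semi} (hq : isRoot (toV (q : Q)) = true) :
    (Nat.card G : ℂ) * (Nat.card D.π.ker : ℂ) * (∑ᶠ χ ∈ principalBlock M G,
        (χ : G → ℂ) D.u ^ 2 / (χ : G → ℂ) 1 * (χ : G → ℂ) (D.p q)) =
      (48 * Nat.card D.π.ker : ℂ) ^ 2 * ((if tyv (toV (q : Q)) = 4 then 4 else 0 : ℕ) : ℂ) *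
        (Dih.invCount D.O (D.p x₀) : ℂ) ^ 2 := by
  classical
  cases nonempty_fintype ↥D.O
  cases nonempty_fintype ↥D.p.range
  obtain ⟨-, hty⟩ := root_types _ (mem_units (q : Q)) hq
  obtain ⟨hle, hidx⟩ := D.root_facts (q := q) hty
  have hd : din (ty (q : Q)) = true := by
    rcases hty with e | e | e <;> rw [show ty (q : Q) = _ from e] <;> rfl
  have hcy : Subgroup.centralizer ({D.p q} : Set G) ≤ D.H := fun g hg => by
    refine (D.mem_H (hle hg)).2 (root_comm _ (mem_units (q : Q)) hq _ (mem_units _) (decide_eq_true ?_))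
    rw [← toV_mul, ← toV_mul, ← D.pi_p q, ← map_mul, ← map_mul]
    exact congrArg toV (congrArg D.π (Subtype.ext (Subgroup.mem_centralizer_singleton_iff.1 hg)))
  have hloc : ∀ a : G, ∀ l : ↥D.O, orderOf a = 2 → orderOf (a * ((l : G) * (D.p q)⁻¹)) = 2 → a ∈ D.H := by
    intro a l ha hal
    set w := (l : G) * (D.p q)⁻¹ with hw
    have hwC : w ∈ Subgroup.centralizer ({D.u} : Set G) := mul_mem (D.O_le l.2) (inv_mem (D.p_mem q))
    have hπw : D.π ⟨w, hwC⟩ = (q : Q)⁻¹ := by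
      rw [show (⟨w, hwC⟩ : ↥(Subgroup.centralizer ({D.u} : Set G))) = ⟨(l : G), D.O_le l.2⟩ *
        ⟨D.p q, D.p_mem q⟩⁻¹ from rfl, map_mul, map_inv, (D.mem_O (D.O_le l.2)).1 l.2, one_mul, D.pi_p]
    have hdw : din (ty (D.π ⟨w, hwC⟩)) = true := by
      rw [hπw]
      have key : ∀ v ∈ units, din (tyv v) = true → din (tyv (iv v)) = true := by decide +kernel
      rw [ty, toV_inv]; exact key _ (mem_units _) hd
    obtain ⟨k, hk⟩ := D.exists_pow hwC hdw
    have ha2 : a * a = 1 := by have := pow_orderOf_eq_one a; rwa [ha, pow_two] at this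
    have hai : a⁻¹ = a := inv_eq_of_mul_eq_one_left ha2
    have haw : a * w * a⁻¹ = w⁻¹ := by
      have h' := pow_orderOf_eq_one (a * w)
      rw [hal, pow_two] at h'
      rw [hai, eq_inv_iff_mul_eq_one, mul_assoc (a * w) a w]
      exact h'
    have h1 : a * D.u * a⁻¹ = D.u := by rw [← hk, ← conj_pow, haw, inv_pow, hk, D.u_inv]
    have haC : a ∈ Subgroup.centralizer ({D.u} : Set G) :=
      Subgroup.mem_centralizer_singleton_iff.2 (mul_inv_eq_iff_eq_mul.1 h1)
    refine (D.mem_H haC).2 (root_invert _ (mem_units (q : Q)) hq _ (mem_units (D.π ⟨a, haC⟩)) (decide_eq_true ?_))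
    rw [← toV_inv, ← toV_mul, ← toV_inv, ← toV_mul, ← hπw]
    have h2 := congrArg D.π (Subtype.ext haw : (⟨a, haC⟩ : ↥(Subgroup.centralizer ({D.u} : Set G))) * ⟨w, hwC⟩ *
      ⟨a, haC⟩⁻¹ = ⟨w, hwC⟩⁻¹)
    rw [map_mul, map_mul, map_inv, map_inv] at h2
    rw [h2, hπw, inv_inv]
  have h := Dih.coset_equation hM D.odd2 D.ord (fun z hz => D.all_conj hres hz) (D.orderOf_p q) ⟨q, rfl⟩ hcy
    hidx hloc
  rw [D.card_C, D.card_O] at h
  rw [h]
  push_cast
  rw [mul_assoc]
  congr 1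
  rw [← Equiv.sum_comp (MonoidHom.ofInjective D.p_inj).toEquiv]
  set T := Dih.invCount D.O (D.p x₀)
  have hterm : ∀ x : ↥Semi, (Dih.invCount D.O (D.p x) : ℂ) * (Dih.invCount D.O (D.p x * (D.p q)⁻¹) : ℂ) =
      if tyv (toV (x : Q)) = 5 ∧ tyv (mv (toV (x : Q)) (iv (toV (q : Q)))) = 5 then (T : ℂ) ^ 2 else 0 := by
    intro x
    have hmv : toV ((x * q⁻¹ : ↥Semi) : Q) = mv (toV (x : Q)) (iv (toV (q : Q))) := by
      rw [show ((x * q⁻¹ : ↥Semi) : Q) = (x : Q) * (q : Q)⁻¹ from rfl, toV_mul, toV_inv]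
    rw [← map_inv, ← map_mul]
    obtain ⟨a1, a2⟩ := D.invCount_p h₀ x
    obtain ⟨b1, b2⟩ := D.invCount_p h₀ (x * q⁻¹)
    rw [hmv] at b1 b2
    split_ifs with hc
    · rw [a1 hc.1, b1 hc.2, pow_two]
    · rcases Decidable.em (tyv (toV (x : Q)) = 1 ∨ tyv (toV (x : Q)) = 5) with hx | hx
      · rcases Decidable.em (tyv (mv (toV (x : Q)) (iv (toV (q : Q)))) = 1 ∨
          tyv (mv (toV (x : Q)) (iv (toV (q : Q)))) = 5) with hy | hy
        · exact absurd (root_pair _ (mem_units (q : Q)) hq _ (mem_units (x : Q)) x.2 ⟨hx, hy⟩) hc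
        · rw [b2 (not_or.1 hy)]; simp
      · rw [a2 (not_or.1 hx)]; simp
  refine Eq.trans (Finset.sum_congr rfl fun x _ => hterm x) ?_
  rw [← Finset.sum_filter, Finset.sum_const, nsmul_eq_mul]
  congr 1
  rw [show ((if tyv (toV (q : Q)) = 4 then (4 : ℂ) else 0)) =
    ((if tyv (toV (q : Q)) = 4 then 4 else 0 : ℕ) : ℂ) by split_ifs <;> simp, ← root_count _ (mem_units (q : Q)) hq]
  congr 1
  refine Finset.card_bij (fun x _ => toV (x : Q)) (fun x hx => ?_) (fun a _ b _ e => Subtype.ext (toV_injective e))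
    (fun v hv => ?_)
  · exact Finset.mem_filter.2 ⟨mem_units _, x.2, (Finset.mem_filter.1 hx).2⟩
  · obtain ⟨hvu, hvS, hv5⟩ := Finset.mem_filter.1 hv
    obtain ⟨g, rfl⟩ := toV_surj (Finset.mem_filter.1 hvu).2
    exact ⟨⟨g, hvS⟩, Finset.mem_filter.2 ⟨Finset.mem_univ _, hv5⟩, rfl⟩

end Data

end Cfsg.Agent.Invol.SD16Core
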