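import Mathlib
import Cfsg.Agent.Lib.Invol.GLTwoThreeCount
import Cfsg.Agent.Lib.Block.Orth

/-!
# An involution centraliser with image `GL(2,3)` modulo a subgroup of odd order: local facts

A group without subgroup of index two has one class of involutions and Sylow 2-subgroups of order 16.
-/

set_option autoImplicit false
set_option maxRecDepth 100000
set_option linter.style.haveILetI false

namespace Cfsg.Agent.Invol.SD16Core

open Cfsg GL23

universe u

variable {G : Type u} [Group G]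

/-! ### Tables -/

theorem cyc_le_semi : ∀ w ∈ units, pC w = true → pS w = true := by decide +kernel

theorem commute_cyc : ∀ w ∈ units, mv w w8 = mv w8 w → pS w = true := by decide +kernel

theorem commute_sq : ∀ w ∈ units, mv w (mv w8 w8) = mv (mv w8 w8) w → pS w = true := by decide +kernel

theorem invert_cyc : ∀ w ∈ units, mv (mv w w8) (iv w) = iv w8 → pS w = true := by decide +kernel

theorem invert_sq : ∀ w ∈ units, mv (mv w (mv w8 w8)) (iv w) = iv (mv w8 w8) → pS w = true := by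
  decide +kernel

theorem semi_reflections : ∀ v ∈ units, ∀ w ∈ units, pS v = true → pS w = true → tyv v = 5 → tyv w = 5 →
    ∃ z ∈ units, pS z = true ∧ mv (mv z v) (iv z) = w := by decide +kernel

theorem cent_root : ∀ v ∈ units, ∀ w ∈ units, (tyv v = 4 ∨ tyv v = 6 ∨ tyv v = 7) → mv w v = mv v w →
    pv w 8 = ov := by decide +kernel

theorem cent_outer_table : ∀ v ∈ units, (decide (tyv v = 5) = true) → ∀ w ∈ units,
    decide (mv w v = mv v w) = true → decide (mv w w = ov) = true := by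
  decide +kernel

theorem cent_outer (v : V) (hv : v ∈ units) (w : V) (hw : w ∈ units) (h5 : tyv v = 5)
    (hc : mv w v = mv v w) : mv w w = ov :=
  of_decide_eq_true (cent_outer_table v hv (decide_eq_true h5) w hw (decide_eq_true hc))

theorem semi_types : ∀ w ∈ units, pS w = true → w ≠ ov →
    tyv w = 1 ∨ tyv w = 4 ∨ tyv w = 5 ∨ tyv w = 6 ∨ tyv w = 7 := by decide +kernel

/-! ### The setting -/

/-- The centralizer of an involution `u` maps onto `GL(2,3)` with kernel of odd order; a section over a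
Sylow 2-subgroup. -/
structure Data (G : Type u) [Group G] where
  u : G
  ord : orderOf u = 2
  π : ↥(Subgroup.centralizer ({u} : Set G)) →* Q
  surj : Function.Surjective π
  odd : ¬ 2 ∣ Nat.card π.ker
  s : ↥Semi →* ↥(Subgroup.centralizer ({u} : Set G))
  sec : ∀ q, π (s q) = (q : Q)

theorem neg_mem_semi : neg ∈ Semi := by
  show pS (toV neg) = true
  rw [toV_neg]; decide

/-- A section exists. -/
theorem exists_data [Finite G] {u : G} (hu : orderOf u = 2) (π : ↥(Subgroup.centralizer ({u} : Set G)) →* Q)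
    (surj : Function.Surjective π) (odd : ¬ 2 ∣ Nat.card π.ker) : ∃ D : Data G, D.u = u := by
  classical
  haveI : Fact (Nat.Prime 2) := ⟨Nat.prime_two⟩
  set K := Semi.comap π
  let f : ↥K →* ↥Semi := π.subgroupComap Semi
  have hf : Function.Surjective f := fun q => by
    obtain ⟨g, hg⟩ := surj q
    exact ⟨⟨g, by show π g ∈ Semi; rw [hg]; exact q.2⟩, Subtype.ext hg⟩
  have hker : Nat.card f.ker = Nat.card π.ker := by
    refine Nat.card_congr ⟨fun g => ⟨(g.1 : ↥(Subgroup.centralizer ({u} : Set G))), congrArg Subtype.val (MonoidHom.mem_ker.1 g.2)⟩,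
      fun g => ⟨⟨g.1, by show π g.1 ∈ Semi; rw [MonoidHom.mem_ker.1 g.2]; exact Semi.one_mem⟩,
        MonoidHom.mem_ker.2 (Subtype.ext (MonoidHom.mem_ker.1 g.2))⟩,
      fun g => rfl, fun g => rfl⟩
  have hidx : f.ker.index = 16 := by
    rw [Subgroup.index_ker, MonoidHom.range_eq_top.2 hf, Subgroup.card_top, card_Semi]
  obtain ⟨P⟩ : Nonempty (Sylow 2 ↥K) := Sylow.nonempty
  have hP : Nat.card (P : Subgroup ↥K) = 16 := by
    rw [P.card_eq_multiplicity, ← f.ker.card_mul_index, hidx, hker,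
      Nat.factorization_mul Nat.card_pos.ne' (by norm_num), Finsupp.add_apply,
      Nat.factorization_eq_zero_of_not_dvd odd, show (16 : ℕ) = 2 ^ 4 by norm_num,
      Nat.Prime.factorization_pow Nat.prime_two, Finsupp.single_eq_same, zero_add]
  let g : ↥(P : Subgroup ↥K) →* ↥Semi := f.comp (P : Subgroup ↥K).subtype
  have hg : Function.Injective g := by
    refine (injective_iff_map_eq_one g).2 fun x hx => ?_
    have hxk : (x : ↥K) ∈ f.ker := hx
    have h1 := (f.ker).orderOf_dvd_natCard hxk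
    rw [hker] at h1
    obtain ⟨k, hk⟩ := IsPGroup.iff_orderOf.1 P.isPGroup' x
    rw [Subgroup.orderOf_coe] at h1
    rw [hk] at h1
    rcases k with _ | k
    · exact orderOf_eq_one_iff.1 (hk.trans (pow_zero 2))
    · exact absurd ((dvd_pow_self 2 (by omega)).trans h1) odd
  have hgb : Function.Bijective g :=
    (Nat.bijective_iff_injective_and_card g).2 ⟨hg, by rw [hP, card_Semi]⟩
  let e := MulEquiv.ofBijective g hgb
  refine ⟨⟨u, hu, π, surj, odd, K.subtype.comp ((P : Subgroup ↥K).subtype.comp e.symm.toMonoidHom),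
    fun q => ?_⟩, rfl⟩
  have := e.apply_symm_apply q
  exact congrArg Subtype.val this

namespace Data

variable (D : Data G)

/-- The kernel as a subgroup of the group. -/
def O : Subgroup G := D.π.ker.map (Subgroup.centralizer ({D.u} : Set G)).subtype

/-- The section. -/
def p : ↥Semi →* G := (Subgroup.centralizer ({D.u} : Set G)).subtype.comp D.s

theorem p_mem (q : ↥Semi) : D.p q ∈ Subgroup.centralizer ({D.u} : Set G) := (D.s q).2

theorem p_inj : Function.Injective D.p := fun a b h => by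
  have h' : D.s a = D.s b := Subtype.ext h
  have := congrArg D.π h'
  rwa [D.sec, D.sec, Subtype.coe_inj] at this

theorem u_mem : D.u ∈ Subgroup.centralizer ({D.u} : Set G) :=
  Subgroup.mem_centralizer_singleton_iff.2 rfl

theorem u_sq : D.u * D.u = 1 := by rw [← pow_two, ← D.ord, pow_orderOf_eq_one]

theorem u_inv : D.u⁻¹ = D.u := inv_eq_of_mul_eq_one_left D.u_sq

theorem u_ne_one : D.u ≠ 1 := fun e => by
  have := D.ord
  rw [e, orderOf_one] at this
  omega

theorem comm {g : G} (hg : g ∈ Subgroup.centralizer ({D.u} : Set G)) : g * D.u = D.u * g :=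
  Subgroup.mem_centralizer_singleton_iff.1 hg

variable [Finite G]

theorem card_O : Nat.card D.O = Nat.card D.π.ker :=
  (Nat.card_congr (Subgroup.equivMapOfInjective _ _ (Subgroup.subtype_injective _)).toEquiv).symm

theorem odd_O : ¬ 2 ∣ Nat.card D.O := D.card_O.symm ▸ D.odd

theorem O_le : D.O ≤ Subgroup.centralizer ({D.u} : Set G) := Subgroup.map_subtype_le _

theorem mem_O {g : G} (hg : g ∈ Subgroup.centralizer ({D.u} : Set G)) : g ∈ D.O ↔ D.π ⟨g, hg⟩ = 1 :=
  ⟨fun ⟨x, hx, he⟩ => by rw [show (⟨g, hg⟩ : Subgroup.centralizer ({D.u} : Set G)) = x from Subtype.ext he.symm]; exact hx,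
    fun h => ⟨⟨g, hg⟩, h, rfl⟩⟩

theorem le_normalizer : Subgroup.centralizer ({D.u} : Set G) ≤ Subgroup.normalizer (D.O : Set G) := by
  intro c hc
  refine Subgroup.mem_normalizer_iff.2 fun w => ⟨?_, ?_⟩
  · rintro ⟨v, hv, rfl⟩
    exact ⟨⟨c, hc⟩ * v * ⟨c, hc⟩⁻¹, (MonoidHom.normal_ker D.π).conj_mem v hv _, by simp⟩
  · rintro ⟨v, hv, e⟩
    refine ⟨⟨c, hc⟩⁻¹ * v * ⟨c, hc⟩, (MonoidHom.normal_ker D.π).conj_mem' v hv _, ?_⟩
    simp only [Subgroup.coe_subtype, Subgroup.coe_mul, Subgroup.coe_inv] at e ⊢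
    rw [e]; group

/-- An involution of the centralizer is not in the kernel. -/
theorem map_ne_one {i : Subgroup.centralizer ({D.u} : Set G)} (h2 : i * i = 1) (h1 : i ≠ 1) :
    D.π i ≠ 1 := fun h => by
  haveI : Fact (Nat.Prime 2) := ⟨Nat.prime_two⟩
  refine D.odd ?_
  have := D.π.ker.orderOf_dvd_natCard (x := i) h
  rwa [orderOf_eq_prime (by rw [pow_two]; exact h2) h1] at this

theorem map_u : D.π ⟨D.u, D.u_mem⟩ = neg := by
  refine central_eq_neg (fun g => ?_) (D.map_ne_one (Subtype.ext D.u_sq) fun e => D.u_ne_one ?_)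
  · obtain ⟨c, rfl⟩ := D.surj g
    rw [← map_mul, ← map_mul]
    exact congrArg D.π (Subtype.ext (D.comm c.2).symm)
  · exact congrArg Subtype.val e

/-- The involution is unique over the central involution. -/
theorem eq_u {i : G} (hi : i ∈ Subgroup.centralizer ({D.u} : Set G)) (h2 : i * i = 1)
    (hn : D.π ⟨i, hi⟩ = neg) : i = D.u := by
  by_contra hne
  refine D.map_ne_one (i := ⟨i, hi⟩ * ⟨D.u, D.u_mem⟩) (Subtype.ext ?_) (fun e => hne ?_)
    (by rw [map_mul, hn, D.map_u, neg_mul_neg])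
  · show i * D.u * (i * D.u) = 1
    rw [show i * D.u * (i * D.u) = i * (D.u * i) * D.u by group, ← D.comm hi,
      show i * (i * D.u) * D.u = i * i * (D.u * D.u) by group, h2, D.u_sq, one_mul]
  · have h := congrArg Subtype.val e
    simp only [Subgroup.coe_mul, OneMemClass.coe_one] at h
    rw [eq_inv_of_mul_eq_one_left h, D.u_inv]

theorem p_neg : D.p ⟨neg, neg_mem_semi⟩ = D.u := by
  refine D.eq_u (D.p_mem _) ?_ (D.sec _)
  rw [← map_mul, show (⟨neg, neg_mem_semi⟩ * ⟨neg, neg_mem_semi⟩ : ↥Semi) = 1 from Subtype.ext neg_mul_neg,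
    map_one]

omit [Finite G] in
/-- Two powers of order two of one element agree. -/
theorem pow_unique {g : G} {a b : ℕ} (ha : orderOf (g ^ a) = 2) (hb : orderOf (g ^ b) = 2) :
    g ^ a = g ^ b := by
  have key : ∀ k : ℕ, orderOf (g ^ k) = 2 → orderOf g ∣ 2 * k ∧ ¬ orderOf g ∣ k := fun k hk => by
    refine ⟨orderOf_dvd_iff_pow_eq_one.2 (by rw [mul_comm, pow_mul, ← hk, pow_orderOf_eq_one]), fun h => ?_⟩
    rw [orderOf_dvd_iff_pow_eq_one.1 h, orderOf_one] at hk
    omega
  obtain ⟨ha1, ha2⟩ := key a ha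
  obtain ⟨hb1, hb2⟩ := key b hb
  rw [pow_eq_pow_iff_modEq]
  generalize orderOf g = n at *
  obtain ⟨x, hx⟩ := ha1
  obtain ⟨y, hy⟩ := hb1
  rcases Nat.even_or_odd x with ⟨r, hr⟩ | ⟨r, hr⟩
  · exact absurd ⟨r, by subst hr; linarith⟩ ha2
  rcases Nat.even_or_odd y with ⟨r', hr'⟩ | ⟨r', hr'⟩
  · exact absurd ⟨r', by subst hr'; linarith⟩ hb2
  subst hr hr'
  have h2 : (2 * a) % (2 * n) = (2 * b) % (2 * n) := by
    rw [hx, hy, show n * (2 * r + 1) = n + 2 * n * r by ring, show n * (2 * r' + 1) = n + 2 * n * r' by ring,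
      Nat.add_mul_mod_self_left, Nat.add_mul_mod_self_left]
  rw [Nat.mul_mod_mul_left, Nat.mul_mod_mul_left] at h2
  exact mul_left_cancel₀ two_ne_zero h2

/-- Some power of an element over a root of the central involution is `u`. -/
theorem exists_pow {g : G} (hg : g ∈ Subgroup.centralizer ({D.u} : Set G))
    (hr : din (ty (D.π ⟨g, hg⟩)) = true) : ∃ k : ℕ, g ^ k = D.u := by
  obtain ⟨k, -, hk⟩ := exists_root hr
  refine ⟨k * Nat.card D.π.ker, ?_⟩
  set v : Subgroup.centralizer ({D.u} : Set G) := ⟨g, hg⟩ ^ k * ⟨D.u, D.u_mem⟩ with hv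
  have hvk : v ∈ D.π.ker := by rw [MonoidHom.mem_ker, hv, map_mul, map_pow, hk, D.map_u, neg_mul_neg]
  have h1 : v ^ Nat.card D.π.ker = 1 :=
    orderOf_dvd_iff_pow_eq_one.1 (D.π.ker.orderOf_dvd_natCard hvk)
  have h2 := congrArg Subtype.val h1
  have hc : Commute (g ^ k) D.u := (show Commute g D.u from D.comm hg).pow_left k
  simp only [hv, SubmonoidClass.coe_pow, Subgroup.coe_mul, OneMemClass.coe_one] at h2
  rw [hc.mul_pow, ← pow_mul] at h2
  obtain ⟨r, hr'⟩ : Odd (Nat.card D.π.ker) := Nat.not_even_iff_odd.1 fun he => D.odd he.two_dvd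
  rw [show D.u ^ Nat.card D.π.ker = D.u by
    rw [hr', pow_succ, pow_mul, pow_two, D.u_sq, one_pow, one_mul]] at h2
  rw [eq_inv_of_mul_eq_one_left h2, D.u_inv]

/-- Conjugating one root into the centralizer fixes `u`. -/
theorem root_conj {g x : G} (hg : g ∈ Subgroup.centralizer ({D.u} : Set G))
    (hgr : din (ty (D.π ⟨g, hg⟩)) = true) (hg' : x⁻¹ * g * x ∈ Subgroup.centralizer ({D.u} : Set G))
    (hgr' : din (ty (D.π ⟨_, hg'⟩)) = true) : x ∈ Subgroup.centralizer ({D.u} : Set G) := by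
  obtain ⟨k, hk⟩ := D.exists_pow hg hgr
  obtain ⟨l, hl⟩ := D.exists_pow hg' hgr'
  have h1 : (x⁻¹ * g * x) ^ k = x⁻¹ * D.u * x := by
    rw [← hk]; simpa using (conj_pow (i := k) (a := x⁻¹) (b := g))
  have h2 : orderOf ((x⁻¹ * g * x) ^ k) = 2 := by
    rw [h1, show x⁻¹ * D.u * x = MulAut.conj x⁻¹ D.u by simp, MulEquiv.orderOf_eq, D.ord]
  have h3 := pow_unique h2 (by rw [hl, D.ord] : orderOf ((x⁻¹ * g * x) ^ l) = 2)
  rw [h1, hl] at h3
  refine Subgroup.mem_centralizer_singleton_iff.2 ?_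
  calc x * D.u = x * (x⁻¹ * D.u * x) := by rw [h3]
    _ = D.u * x := by group

theorem card_C : Nat.card (Subgroup.centralizer ({D.u} : Set G)) = 48 * Nat.card D.π.ker := by
  rw [← D.π.ker.card_mul_index, Subgroup.index_ker, MonoidHom.range_eq_top.2 D.surj, Subgroup.card_top,
    card_Q, mul_comm]

theorem card_range : Nat.card D.p.range = 16 := by
  rw [← Nat.card_congr (MonoidHom.ofInjective D.p_inj).toEquiv, card_Semi]

include D in
theorem sylow_sixteen : ¬ 32 ∣ Nat.card G := by
  haveI : Fact (Nat.Prime 2) := ⟨Nat.prime_two⟩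
  intro h32
  have hcard : Nat.card D.p.range = 2 ^ 4 := by rw [D.card_range]; norm_num
  obtain ⟨R, hR, hle⟩ := Sylow.exists_subgroup_card_pow_succ (p := 2) (n := 4) (by simpa using h32) hcard
  have hidx : (D.p.range.subgroupOf R).index = 2 := by
    have := Subgroup.card_mul_index (D.p.range.subgroupOf R)
    rw [Nat.card_congr (Subgroup.subgroupOfEquivOfLe hle).toEquiv, hcard, hR] at this
    omega
  have hnorm := Subgroup.normal_of_index_eq_two hidx
  have hRC : R ≤ Subgroup.centralizer ({D.u} : Set G) := by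
    intro r hr
    have huP : D.u ∈ D.p.range := ⟨_, D.p_neg⟩
    obtain ⟨a, ha⟩ : r * D.u * r⁻¹ ∈ D.p.range :=
      hnorm.conj_mem ⟨D.u, hle huP⟩ huP ⟨r, hr⟩
    have ha' : (a : Q) = neg := by
      refine toV_injective ((semi_central_table _ (mem_units _) a.2 ?_ ?_ (decide_eq_true ?_)).trans toV_neg.symm)
      · rw [← toV_mul, ← toV_one]
        refine congrArg toV (congrArg Subtype.val (D.p_inj (a₁ := a * a) (a₂ := 1) ?_))
        rw [map_mul, ha, map_one, show r * D.u * r⁻¹ * (r * D.u * r⁻¹) = r * (D.u * D.u) * r⁻¹ by group,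
          D.u_sq]
        group
      · rw [← toV_one]
        intro e
        have h1 : a = 1 := Subtype.ext (toV_injective e)
        rw [h1, map_one] at ha
        exact D.u_ne_one (conj_eq_one_iff.1 ha.symm)
      · intro v hv hvS
        obtain ⟨b, rfl⟩ := toV_surj (Finset.mem_filter.1 hv).2
        rw [← toV_mul, ← toV_mul]
        refine congrArg toV (congrArg Subtype.val (D.p_inj (a₁ := a * ⟨b, hvS⟩) (a₂ := ⟨b, hvS⟩ * a) ?_))
        obtain ⟨c, hc⟩ : r⁻¹ * D.p ⟨b, hvS⟩ * r⁻¹⁻¹ ∈ D.p.range :=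
          hnorm.conj_mem ⟨_, hle ⟨_, rfl⟩⟩ ⟨_, rfl⟩ ⟨r⁻¹, inv_mem hr⟩
        have hb : D.p ⟨b, hvS⟩ = r * D.p c * r⁻¹ := by rw [hc]; group
        rw [map_mul, map_mul, ha, hb,
          show r * D.u * r⁻¹ * (r * D.p c * r⁻¹) = r * (D.u * D.p c) * r⁻¹ by group,
          show r * D.p c * r⁻¹ * (r * D.u * r⁻¹) = r * (D.p c * D.u) * r⁻¹ by group,
          D.comm (D.p_mem c)]
    rw [show a = ⟨neg, neg_mem_semi⟩ from Subtype.ext ha', D.p_neg] at ha
    refine Subgroup.mem_centralizer_singleton_iff.2 ?_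
    calc r * D.u = (r * D.u * r⁻¹) * r := by group
      _ = D.u * r := by rw [← ha]
  have := Subgroup.card_dvd_of_le hRC
  rw [hR, D.card_C] at this
  have h2 := (Nat.Coprime.pow_left 5 (Nat.prime_two.coprime_iff_not_dvd.2 D.odd)).dvd_of_dvd_mul_right this
  norm_num at h2

include D in
theorem exists_card_eq : ∃ m : ℕ, Odd m ∧ Nat.card G = 16 * m := by
  have h16 := Subgroup.card_subgroup_dvd_card D.p.range
  rw [D.card_range] at h16
  obtain ⟨m, hm⟩ := h16
  refine ⟨m, Nat.not_even_iff_odd.1 fun ⟨r, hr⟩ => D.sylow_sixteen ⟨r, ?_⟩, hm⟩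
  rw [hm, hr]; ring

/-- Without a subgroup of index two all involutions are conjugate. -/
theorem all_conj (hres : pResidual 2 G = ⊤) {z : G} (hz : orderOf z = 2) : IsConj D.u z := by
  classical
  haveI : Fact (Nat.Prime 2) := ⟨Nat.prime_two⟩
  have fuse : ∀ a : ↥Semi, a * a = 1 → a ≠ 1 → IsConj D.u (D.p a) := by
    intro a ha ha1
    set M := (Cyc.subgroupOf Semi).map D.p with hMdef
    have hcs : Cyc ≤ Semi := fun g hg => cyc_le_semi _ (mem_units g) hg
    have hMc : Nat.card M = 8 := by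
      rw [hMdef, Subgroup.card_map_of_injective D.p_inj,
        Nat.card_congr (Subgroup.subgroupOfEquivOfLe hcs).toEquiv, card_Cyc]
    have hexists : ∃ g : G, g * D.p a * g⁻¹ ∈ M := by
      by_contra hne
      push Not at hne
      obtain ⟨m, hm, hG⟩ := D.exists_card_eq
      have hidx := M.index_mul_card
      rw [hMc, hG] at hidx
      obtain ⟨r, hr⟩ := hm
      have hsign := TransferDihedral.cosetSign_eq_neg_one M (c := D.p a) (j := 0) (m := M.index / 2)
        (by rw [orderOf_injective D.p D.p_inj, orderOf_eq_prime (by rw [pow_two, ha]) ha1]; norm_num)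
        (by omega) (Nat.odd_iff.2 (by omega)) (fun g => by simpa using hne g)
      have := TransferDihedral.pResidual_le_ker (TransferDihedral.cosetSign M)
      rw [hres] at this
      rw [MonoidHom.mem_ker.1 (this (Subgroup.mem_top (D.p a)))] at hsign
      exact absurd hsign (by decide)
    obtain ⟨g, c, hcC, hc⟩ := hexists
    have hc' : (c : Q) = neg := by
      refine toV_injective ((card_Cyc_invol _ (mem_units _) hcC ?_ ?_).trans toV_neg.symm)
      · rw [← toV_mul, ← toV_one]
        refine congrArg toV (congrArg Subtype.val (D.p_inj (a₁ := c * c) (a₂ := 1) ?_))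
        rw [map_mul, hc, map_one, show g * D.p a * g⁻¹ * (g * D.p a * g⁻¹) = g * (D.p a * D.p a) * g⁻¹ by group,
          ← map_mul, ha, map_one]
        group
      · rw [← toV_one]
        intro e
        rw [show c = 1 from Subtype.ext (toV_injective e), map_one] at hc
        exact ha1 (D.p_inj (by rw [map_one]; exact conj_eq_one_iff.1 hc.symm))
    rw [show c = ⟨neg, neg_mem_semi⟩ from Subtype.ext hc', D.p_neg] at hc
    exact (isConj_iff.2 ⟨g, hc.symm⟩).symm
  obtain ⟨S₀, hS₀⟩ := (IsPGroup.of_card (p := 2) (n := 4) (D.card_range.trans (by norm_num))).exists_le_sylow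
  have hS₀c : Nat.card (S₀ : Subgroup G) = 16 := by
    obtain ⟨m, hm, hG⟩ := D.exists_card_eq
    rw [S₀.card_eq_multiplicity, hG, Nat.factorization_mul (by norm_num) hm.pos.ne', Finsupp.add_apply,
      Nat.factorization_eq_zero_of_not_dvd (n := m) (fun h => by obtain ⟨r, rfl⟩ := hm; omega),
      show (16 : ℕ) = 2 ^ 4 by norm_num, Nat.Prime.factorization_pow Nat.prime_two, Finsupp.single_eq_same,
      add_zero]
  have hS₀eq : D.p.range = (S₀ : Subgroup G) := Subgroup.eq_of_le_of_card_ge hS₀ (by rw [hS₀c, D.card_range])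
  obtain ⟨S, hS⟩ := (IsPGroup.of_card (p := 2) (n := 1) (show Nat.card (Subgroup.zpowers z) = 2 ^ 1 by
    rw [Nat.card_zpowers, hz]; norm_num)).exists_le_sylow
  obtain ⟨g, hg⟩ := MulAction.exists_smul_eq G S₀ S
  have hzS : z ∈ ((g • S₀ : Sylow 2 G) : Subgroup G) := hg.symm ▸ hS (Subgroup.mem_zpowers z)
  rw [Sylow.coe_subgroup_smul, Subgroup.mem_pointwise_smul_iff_inv_smul_mem, ← hS₀eq] at hzS
  obtain ⟨a, ha⟩ := hzS
  rw [← map_inv, MulAut.smul_def, MulAut.conj_apply, inv_inv] at ha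
  have ho : orderOf (g⁻¹ * z * g) = 2 := by
    have := MulEquiv.orderOf_eq (MulAut.conj g⁻¹) z
    rwa [MulAut.conj_apply, inv_inv, hz] at this
  rw [← ha, orderOf_injective D.p D.p_inj] at ho
  have h1 : a * a = 1 := by
    have := pow_orderOf_eq_one a
    rwa [ho, pow_two] at this
  have h2 : a ≠ 1 := fun e => by rw [e, orderOf_one] at ho; omega
  exact (fuse a h1 h2).trans (isConj_iff.2 ⟨g, by rw [ha]; group⟩)

end Data

end Cfsg.Agent.Invol.SD16Core
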