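import Cfsg.Agent.Lib.Invol.SD16Core.Induced
import Cfsg.Agent.Lib.Block.Dihedral.OrderFormula

/-!
# An involution centraliser with image `GL(2,3)` modulo a subgroup of odd order: values on the cosets of the kernel

Characters of the principal 2-block are constant on each coset over a 2-singular element; the others have zero
sums over the cosets of the roots.
-/

set_option autoImplicit false
set_option maxRecDepth 100000
set_option linter.style.haveILetI false
set_option linter.unusedSectionVars false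

namespace Cfsg.Agent.Invol.SD16Core

open scoped ComplexConjugate
open Cfsg GL23 Cfsg.Agent.Char Cfsg.Agent.Block

universe u

variable {G : Type u} [Group G]

namespace Data

variable (D : Data G) [Fintype G] [Fintype ↥(Subgroup.centralizer ({D.u} : Set G))] {M : Ideal AlgInt}

theorem orderOf_p (q : ↥Semi) : ∃ k : ℕ, orderOf (D.p q) = 2 ^ k := by
  rw [orderOf_injective D.p D.p_inj]
  have h := orderOf_dvd_natCard q
  rw [card_Semi] at h
  obtain ⟨k, -, hk⟩ := (Nat.dvd_prime_pow Nat.prime_two).1 (h.trans (show 16 ∣ 2 ^ 4 by norm_num))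
  exact ⟨k, hk⟩

theorem pi_p (q : ↥Semi) : D.π ⟨D.p q, D.p_mem q⟩ = q := D.sec q

theorem avg_eq (f : G → ℂ) (q : ↥Semi) [Fintype ↥D.O] :
    D.avg f q = (Nat.card D.π.ker : ℂ)⁻¹ * ∑ l : ↥D.O, f ((l : G) * D.p q) := by
  classical
  rw [avg]
  congr 1
  rw [← Finset.sum_filter]
  refine (Finset.sum_bij (fun (l : ↥D.O) _ => (⟨(l : G) * D.p q, mul_mem (D.O_le l.2) (D.p_mem q)⟩ :
      ↥(Subgroup.centralizer ({D.u} : Set G)))) (fun l _ => Finset.mem_filter.2 ⟨Finset.mem_univ _, ?_⟩)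
    (fun a _ b _ h => ?_) (fun g hg => ?_) (fun l _ => rfl)).symm
  · rw [show (⟨(l : G) * D.p q, mul_mem (D.O_le l.2) (D.p_mem q)⟩ : ↥(Subgroup.centralizer ({D.u} : Set G))) =
      ⟨(l : G), D.O_le l.2⟩ * ⟨D.p q, D.p_mem q⟩ from rfl, map_mul, (D.mem_O (D.O_le l.2)).1 l.2, one_mul,
      D.pi_p]
  · exact Subtype.ext (mul_right_cancel (congrArg Subtype.val h))
  · have hq : D.π g = q := (Finset.mem_filter.1 hg).2
    refine ⟨⟨(g : G) * (D.p q)⁻¹, ?_⟩, Finset.mem_univ _, Subtype.ext (inv_mul_cancel_right _ _)⟩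
    refine (D.mem_O (mul_mem g.2 (inv_mem (D.p_mem q)))).2 ?_
    rw [show (⟨(g : G) * (D.p q)⁻¹, mul_mem g.2 (inv_mem (D.p_mem q))⟩ : ↥(Subgroup.centralizer ({D.u} : Set G))) =
      g * ⟨D.p q, D.p_mem q⟩⁻¹ from rfl, map_mul, map_inv, hq, D.pi_p, mul_inv_cancel]

theorem const_u (hM : IsPModular 2 M) {χ : IrrCharacter G} (hχ : χ ∈ principalBlock M G)
    {v : ↥(Subgroup.centralizer ({D.u} : Set G))} (hv : D.π v = 1) :
    (χ : G → ℂ) (D.u * (v : G)) = (χ : G → ℂ) D.u := by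
  haveI : Fact (Nat.Prime 2) := ⟨Nat.prime_two⟩
  exact principal_section_const hM ⟨1, by rw [D.ord]; norm_num⟩ D.odd
    (fun h => D.odd (h.trans (D.π.ker.orderOf_dvd_natCard hv))) hv hχ

theorem avg_neg (hM : IsPModular 2 M) {χ : IrrCharacter G} (hχ : χ ∈ principalBlock M G) :
    D.avg χ neg = (χ : G → ℂ) D.u := by
  classical
  cases nonempty_fintype ↥D.O
  rw [show (neg : Q) = ((⟨neg, neg_mem_semi⟩ : ↥Semi) : Q) from rfl, D.avg_eq, D.p_neg,
    Finset.sum_congr rfl fun (l : ↥D.O) _ => show (χ : G → ℂ) ((l : G) * D.u) = (χ : G → ℂ) D.u by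
      rw [D.comm (D.O_le l.2)]
      exact D.const_u hM hχ (v := ⟨(l : G), D.O_le l.2⟩) ((D.mem_O (D.O_le l.2)).1 l.2),
    Finset.sum_const, nsmul_eq_mul, Finset.card_univ, ← Nat.card_eq_fintype_card, D.card_O,
    inv_mul_cancel_left₀ D.ker_ne_zero]

/-- The facts on the centralizer of a root outside the centre. -/
theorem root_facts {q : ↥Semi} (hq : ty (q : Q) = 4 ∨ ty (q : Q) = 6 ∨ ty (q : Q) = 7) :
    Subgroup.centralizer ({D.p q} : Set G) ≤ Subgroup.centralizer ({D.u} : Set G) ∧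
      ∃ k : ℕ, (D.O.subgroupOf (Subgroup.centralizer ({D.p q} : Set G))).index = 2 ^ k := by
  haveI : Fact (Nat.Prime 2) := ⟨Nat.prime_two⟩
  have hd : din (ty (D.π ⟨D.p q, D.p_mem q⟩)) = true := by
    rw [D.pi_p]; rcases hq with e | e | e <;> rw [e] <;> rfl
  obtain ⟨k, hk⟩ := D.exists_pow (D.p_mem q) hd
  have hle : Subgroup.centralizer ({D.p q} : Set G) ≤ Subgroup.centralizer ({D.u} : Set G) := fun g hg => by
    refine Subgroup.mem_centralizer_singleton_iff.2 ?_
    rw [← hk]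
    exact ((show Commute g (D.p q) from Subgroup.mem_centralizer_singleton_iff.1 hg).pow_right k).eq
  refine ⟨hle, ?_⟩
  let f := D.π.comp (Subgroup.inclusion hle)
  have hker : D.O.subgroupOf (Subgroup.centralizer ({D.p q} : Set G)) = f.ker := by
    ext g
    exact (D.mem_O (hle g.2))
  have hP : IsPGroup 2 f.range := by
    rintro ⟨_, g, rfl⟩
    refine ⟨3, Subtype.ext ?_⟩
    show f g ^ 8 = 1
    refine toV_injective ?_
    rw [toV_pow, toV_one]
    refine cent_root (toV (q : Q)) (mem_units _) _ (mem_units _) hq ?_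
    rw [← toV_mul, ← toV_mul, ← D.pi_p q]
    refine congrArg toV ?_
    show D.π (Subgroup.inclusion hle g) * D.π _ = D.π _ * D.π (Subgroup.inclusion hle g)
    rw [← map_mul, ← map_mul]
    exact congrArg D.π (Subtype.ext (Subgroup.mem_centralizer_singleton_iff.1 g.2))
  obtain ⟨n, hn⟩ := IsPGroup.iff_card.1 hP
  exact ⟨n, by rw [hker, Subgroup.index_ker, hn]⟩

theorem avg_root (hM : IsPModular 2 M) {q : ↥Semi} (hq : ty (q : Q) = 4 ∨ ty (q : Q) = 6 ∨ ty (q : Q) = 7)
    (χ : IrrCharacter G) [Decidable (χ ∈ principalBlock M G)] :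
    D.avg χ q = if χ ∈ principalBlock M G then (χ : G → ℂ) (D.p q) else 0 := by
  classical
  cases nonempty_fintype ↥D.O
  obtain ⟨hle, hidx⟩ := D.root_facts hq
  rw [D.avg_eq, Dih.coset_sum hM D.O (D.orderOf_p q) (D.le_normalizer (D.p_mem q)) (hle.trans D.le_normalizer)
    D.odd_O hidx χ]
  split_ifs
  · rw [D.card_O, inv_mul_cancel_left₀ D.ker_ne_zero]
  · rw [mul_zero]

/-- Over a non-central involution. -/
theorem const_outer (hM : IsPModular 2 M) (hres : pResidual 2 G = ⊤) {χ : IrrCharacter G}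
    (hχ : χ ∈ principalBlock M G) {g : ↥(Subgroup.centralizer ({D.u} : Set G))} (hg : ty (D.π g) = 5) :
    (χ : G → ℂ) g = (χ : G → ℂ) D.u := by
  haveI : Fact (Nat.Prime 2) := ⟨Nat.prime_two⟩
  have hcases : ∀ w ∈ units, tyv w = 5 → mv w w = ov ∧ w ≠ ov ∧ w ≠ nv := by decide +kernel
  obtain ⟨hw1, hw2, hw3⟩ := hcases _ (mem_units (D.π g)) hg
  obtain ⟨z, v, hzv, hc, ⟨i, hi⟩, hv, hzg, hvg⟩ := exists_pPart_zpowers (p := 2) g
  have hπ2 : D.π g * D.π g = 1 := toV_injective (by rw [toV_mul, toV_one]; exact hw1)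
  have hπv : D.π v = 1 := by
    have h1 : (D.π v) ^ 2 = 1 := by
      obtain ⟨m, rfl⟩ := Subgroup.mem_zpowers_iff.1 hvg
      rw [map_zpow, ← zpow_natCast, ← zpow_mul, mul_comm, zpow_mul, zpow_natCast, pow_two, hπ2, one_zpow]
    have h2 : orderOf (D.π v) ∣ 2 := orderOf_dvd_of_pow_eq_one h1
    have h3 : orderOf (D.π v) ∣ orderOf v := orderOf_map_dvd D.π v
    exact orderOf_eq_one_iff.1 (((Nat.dvd_prime Nat.prime_two).1 h2).resolve_right fun e => hv (e ▸ h3))
  have hπz : D.π z = D.π g := by rw [← hzv, map_mul, hπv, mul_one]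
  have hz2 : z * z = 1 := by
    have hmem : z * z ∈ D.π.ker := by rw [MonoidHom.mem_ker, map_mul, hπz, hπ2]
    have h1 := D.π.ker.orderOf_dvd_natCard hmem
    obtain ⟨j, -, hj⟩ := (Nat.dvd_prime_pow Nat.prime_two).1
      (hi ▸ (pow_two z ▸ orderOf_pow_dvd 2 : orderOf (z * z) ∣ orderOf z))
    rcases j with _ | j
    · exact orderOf_eq_one_iff.1 (hj.trans (pow_zero 2))
    · exact absurd ((hj ▸ dvd_pow_self 2 (by omega) : 2 ∣ orderOf (z * z)).trans h1) D.odd
  have hz1 : z ≠ 1 := fun e => hw2 (by rw [← hπz, e, map_one, toV_one])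
  have hzo : orderOf (z : G) = 2 := by
    rw [Subgroup.orderOf_coe]; exact orderOf_eq_prime (by rw [pow_two, hz2]) hz1
  obtain ⟨h, hh⟩ := isConj_iff.1 (D.all_conj hres hzo)
  have hzu : (z : G) * D.u = D.u * z := D.comm z.2
  set v' : G := h⁻¹ * (v : G) * h with hv'
  have hcv : (v : G) * (z : G) = z * v := (congrArg Subtype.val hc).symm
  have hv'C : v' ∈ Subgroup.centralizer ({D.u} : Set G) := by
    refine Subgroup.mem_centralizer_singleton_iff.2 ?_
    calc v' * D.u = h⁻¹ * ((v : G) * (h * D.u * h⁻¹)) * h := by rw [hv']; group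
      _ = h⁻¹ * ((h * D.u * h⁻¹) * v) * h := by rw [hh, hcv]
      _ = D.u * v' := by rw [hv']; group
  set w : G := h⁻¹ * D.u * h with hw
  have hwC : w ∈ Subgroup.centralizer ({D.u} : Set G) := by
    refine Subgroup.mem_centralizer_singleton_iff.2 ?_
    calc w * D.u = h⁻¹ * (D.u * (h * D.u * h⁻¹)) * h := by rw [hw]; group
      _ = h⁻¹ * ((h * D.u * h⁻¹) * D.u) * h := by rw [hh, hzu]
      _ = D.u * w := by rw [hw]; group
  have hw2' : w * w = 1 := by
    rw [hw, show h⁻¹ * D.u * h * (h⁻¹ * D.u * h) = h⁻¹ * (D.u * D.u) * h by group, D.u_sq]; group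
  have hw1' : D.π ⟨w, hwC⟩ ≠ neg := fun e => by
    have e1 := D.eq_u hwC hw2' e
    refine hw3 ?_
    have : z = ⟨D.u, D.u_mem⟩ := Subtype.ext (by
      rw [← hh]
      nth_rewrite 1 [← e1]
      rw [hw]; group)
    rw [← hπz, this, D.map_u, toV_neg]
  have hπw : D.π ⟨w, hwC⟩ ≠ 1 := D.map_ne_one (Subtype.ext hw2') fun e => D.u_ne_one (by
    have e' : h⁻¹ * D.u * h = 1 := congrArg Subtype.val e
    calc D.u = h * (h⁻¹ * D.u * h) * h⁻¹ := by group
      _ = 1 := by rw [e']; group)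
  have hπw2 : D.π ⟨w, hwC⟩ * D.π ⟨w, hwC⟩ = 1 := by
    rw [← map_mul]
    exact (congrArg D.π (Subtype.ext hw2')).trans (map_one _)
  have hty : tyv (toV (D.π ⟨w, hwC⟩)) = 5 := by
    refine (invol_table _ (mem_units _) (by rw [← toV_mul, hπw2, toV_one])
      (fun e => hπw (toV_injective (e.trans toV_one.symm)))).resolve_left fun e => hw1' ?_
    obtain ⟨x, hx⟩ := isConj_el (D.π ⟨w, hwC⟩)
    rw [show ty (D.π ⟨w, hwC⟩) = 1 from e] at hx
    rw [← show x⁻¹ * neg * x = D.π ⟨w, hwC⟩ from hx, mul_assoc, neg_comm, inv_mul_cancel_left]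
  have hcomm : v' * w = w * v' := by
    rw [hv', hw]
    have hvu : (v : G) * D.u = D.u * v := D.comm v.2
    calc h⁻¹ * (v : G) * h * (h⁻¹ * D.u * h) = h⁻¹ * ((v : G) * D.u) * h := by group
      _ = h⁻¹ * (D.u * v) * h := by rw [hvu]
      _ = _ := by group
  have h5 := cent_outer _ (mem_units (D.π ⟨w, hwC⟩)) _ (mem_units (D.π ⟨v', hv'C⟩)) hty (by
    rw [← toV_mul, ← toV_mul, ← map_mul, ← map_mul]
    exact congrArg toV (congrArg D.π (Subtype.ext hcomm)))
  have hπv' : D.π ⟨v', hv'C⟩ = 1 := by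
    have h2 : orderOf (D.π ⟨v', hv'C⟩) ∣ 2 := orderOf_dvd_of_pow_eq_one
      (toV_injective (by rw [pow_two, toV_mul, toV_one]; exact h5))
    have h3 : orderOf (D.π ⟨v', hv'C⟩) ∣ orderOf v := by
      refine (orderOf_map_dvd D.π _).trans ?_
      rw [← Subgroup.orderOf_coe ⟨v', hv'C⟩, ← Subgroup.orderOf_coe v]
      refine dvd_of_eq ?_
      show orderOf (h⁻¹ * (v : G) * h) = _
      rw [show h⁻¹ * (v : G) * h = MulAut.conj h⁻¹ (v : G) by simp, MulEquiv.orderOf_eq]
    exact orderOf_eq_one_iff.1 (((Nat.dvd_prime Nat.prime_two).1 h2).resolve_right fun e => hv (e ▸ h3))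
  calc (χ : G → ℂ) g = (χ : G → ℂ) (h * (D.u * v') * h⁻¹) := by
        congr 1
        rw [← hzv, Subgroup.coe_mul, ← hh, hv']; group
    _ = (χ : G → ℂ) (D.u * v') := irr_classFun χ _ _
    _ = _ := D.const_u hM hχ hπv'

/-- The averages of a character of the principal block off the identity of the Sylow subgroup. -/
theorem avg_semi (hM : IsPModular 2 M) (hres : pResidual 2 G = ⊤) {χ : IrrCharacter G}
    (hχ : χ ∈ principalBlock M G) {q : ↥Semi} (hq : q ≠ 1) : D.avg χ q = (χ : G → ℂ) (D.p q) := by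
  classical
  cases nonempty_fintype ↥D.O
  have hne : toV (q : Q) ≠ ov := fun e => hq (Subtype.ext (toV_injective (e.trans toV_one.symm)))
  rcases semi_types _ (mem_units _) q.2 hne with e | e | e | e | e
  · obtain ⟨x, hx⟩ := isConj_el (q : Q)
    rw [show ty (q : Q) = 1 from e] at hx
    have hqn : (q : Q) = neg := by
      rw [← show x⁻¹ * neg * x = (q : Q) from hx, mul_assoc, neg_comm, inv_mul_cancel_left]
    rw [hqn, D.avg_neg hM hχ, show q = ⟨neg, neg_mem_semi⟩ from Subtype.ext hqn, D.p_neg]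
  · rw [D.avg_root hM (Or.inl e), if_pos hχ]
  · have h5 : ∀ g : ↥(Subgroup.centralizer ({D.u} : Set G)), D.π g = q → (χ : G → ℂ) g = (χ : G → ℂ) D.u :=
      fun g hg => D.const_outer hM hres hχ (by rw [hg]; exact e)
    rw [D.avg_eq, Finset.sum_congr rfl fun (l : ↥D.O) _ =>
      show (χ : G → ℂ) ((l : G) * D.p q) = (χ : G → ℂ) D.u from
        h5 (⟨(l : G), D.O_le l.2⟩ * ⟨D.p q, D.p_mem q⟩)
          (by rw [map_mul, (D.mem_O (D.O_le l.2)).1 l.2, one_mul, D.pi_p]),
      Finset.sum_const, nsmul_eq_mul, Finset.card_univ, ← Nat.card_eq_fintype_card, D.card_O,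
      inv_mul_cancel_left₀ D.ker_ne_zero]
    exact (h5 ⟨D.p q, D.p_mem q⟩ (D.pi_p q)).symm
  · rw [D.avg_root hM (Or.inr (Or.inl e)), if_pos hχ]
  · rw [D.avg_root hM (Or.inr (Or.inr e)), if_pos hχ]

end Data

end Cfsg.Agent.Invol.SD16Core
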